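import Cfsg.Agent.ConstrainedBlock.Single
import Cfsg.Agent.Blocks.BrauerMap
import Cfsg.Agent.Glauberman.Setting
import Cfsg.Agent.Coprime.PTimesQ
import Cfsg.Agent.PLocal.Constraint

/-!
# Principal type of the block over an invariant character of a constrained group

For a p-subgroup `R` the restriction of the idempotent of `θ` to `C(R)` is the idempotent of the
Glauberman correspondent, and `C(R)` again satisfies the hypotheses of the one block theorem; so
exactly one block of `C(R)` induces the block over `θ`.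
-/

set_option autoImplicit false
set_option linter.unusedSectionVars false
set_option linter.style.haveILetI false

namespace CfsgLib.ConstrainedBlock

open Cfsg CfsgLib.Blocks
open CfsgLib.BlockPairs (GA)

universe u

variable {G : Type u} [Group G] [Fintype G] {p : ℕ} [Fact p.Prime]

/-- A subgroup of index prime to `p` in `M'` has the same image in a p-group. -/
theorem map_eq_of_not_dvd_relIndex {H : Type*} [Group H] (f : G →* H) {S M' : Subgroup G}
    (hS : S ≤ M') (hd : ¬ p ∣ S.relIndex M') (hp : IsPGroup p (M'.map f)) :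
    S.map f = M'.map f := by
  refine le_antisymm (Subgroup.map_mono hS) (Subgroup.relIndex_eq_one.1 ?_)
  have h1 : (S.map f).relIndex (M'.map f) ∣ S.relIndex M' := by
    rw [← Subgroup.relIndex_comap]
    exact Subgroup.relIndex_dvd_of_le_left M' (Subgroup.le_comap_map f S)
  have h2 : (S.map f).relIndex (M'.map f) ∣ Nat.card (M'.map f) := Subgroup.index_dvd_card _
  haveI : Finite (M'.map f) :=
    ((Set.toFinite (M' : Set G)).image f).subset (by rw [Subgroup.coe_map]) |>.to_subtype
  obtain ⟨j, hj⟩ := IsPGroup.iff_card.1 hp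
  rw [hj] at h2
  obtain ⟨i, -, hi⟩ := (Nat.dvd_prime_pow (Fact.out : p.Prime)).1 h2
  rcases Nat.eq_zero_or_pos i with h | h
  · rw [hi, h, pow_zero]
  · exact absurd ((dvd_pow_self p h.ne').trans (hi ▸ h1)) hd

variable {K L Q : Subgroup G} [hKn : K.Normal] [hLn : L.Normal]

/-- In a constrained situation, a p-regular element centralizing a p-subgroup `R` and a Sylow
subgroup of `L ∩ C(R)` lies in `K`. -/
theorem mem_of_centralizes (hK : ¬ p ∣ Nat.card K) (hKL : K ≤ L)
    (hq : ∃ k, K.relIndex L = p ^ k) (hQL : Q ≤ L) (hQp : IsPGroup p Q)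
    (hQi : ¬ p ∣ Q.relIndex L) (hCQ : Subgroup.centralizer (Q : Set G) ≤ L) {R S : Subgroup G}
    (hR : IsPGroup p R) (hS : S ≤ L ⊓ Subgroup.centralizer (R : Set G))
    (hSi : ¬ p ∣ S.relIndex (L ⊓ Subgroup.centralizer (R : Set G))) {y : G}
    (hyR : y ∈ Subgroup.centralizer (R : Set G)) (hyS : y ∈ Subgroup.centralizer (S : Set G))
    (hy : ¬ p ∣ orderOf y) : y ∈ K := by
  haveI := Fintype.ofFinite K
  set f := QuotientGroup.mk' K with hf
  have hKcop : (Nat.card K).Coprime p := ((Fact.out : p.Prime).coprime_iff_not_dvd.2 hK).symm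
  have hUp : IsPGroup p (L.map f) := by
    obtain ⟨k, hk⟩ := hq
    refine IsPGroup.of_card (n := k) ?_
    rw [← Subgroup.relIndex_ker, hf, QuotientGroup.ker_mk', hk]
  have hQU : Q.map f = L.map f := map_eq_of_not_dvd_relIndex f hQL hQi hUp
  have hSU : S.map f = (L ⊓ Subgroup.centralizer (R : Set G)).map f :=
    map_eq_of_not_dvd_relIndex f hS hSi (hUp.to_le (Subgroup.map_mono inf_le_left))
  have hfix : L.map f ⊓ Subgroup.centralizer ((R.map f : Subgroup (G ⧸ K)) : Set (G ⧸ K)) =
      S.map f := by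
    rw [hSU]
    refine (Coprime.map_inf_centralizer f Subgroup.le_normalizer_of_normal ?_ ?_).symm
    · obtain ⟨j, hj⟩ := IsPGroup.iff_card.1 hR
      rw [hj, hf, QuotientGroup.ker_mk', inf_eq_right.2 hKL]
      exact Nat.Coprime.pow_left _ hKcop.symm
    · haveI := hR.isNilpotent
      exact Or.inl inferInstance
  set Y := Subgroup.zpowers (f y) with hY
  have hYR : R.map f ≤ Subgroup.centralizer (Y : Set (G ⧸ K)) := by
    rintro _ ⟨r, hr, rfl⟩
    rw [Subgroup.mem_centralizer_iff]
    rintro _ ⟨n, rfl⟩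
    exact (Commute.zpow_left (show Commute (f y) (f r) from
      Commute.map (Subgroup.mem_centralizer_iff.1 hyR r hr).symm f) n).eq
  have hYS : S.map f ≤ Subgroup.centralizer (Y : Set (G ⧸ K)) := by
    rintro _ ⟨r, hr, rfl⟩
    rw [Subgroup.mem_centralizer_iff]
    rintro _ ⟨n, rfl⟩
    exact (Commute.zpow_left (show Commute (f y) (f r) from
      Commute.map (Subgroup.mem_centralizer_iff.1 hyS r hr).symm f) n).eq
  haveI : (L.map f).Normal := hLn.map f (QuotientGroup.mk'_surjective K)
  have hYU : Y ≤ Subgroup.centralizer ((L.map f : Subgroup (G ⧸ K)) : Set (G ⧸ K)) := by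
    refine Coprime.le_centralizer_of_inf_centralizer_le (hR.map f) ?_ hUp hYR
      Subgroup.le_normalizer_of_normal Subgroup.le_normalizer_of_normal (hfix ▸ hYS)
    rw [hY, Nat.card_zpowers]
    exact (((Fact.out : p.Prime).coprime_iff_not_dvd.2
      fun h => hy (h.trans (orderOf_map_dvd f y)))).symm
  rw [← hQU, hf, PLocal.centralizer_map_mk'_eq K hKcop hQp] at hYU
  obtain ⟨c, hc, hcy⟩ := hYU (Subgroup.mem_zpowers (f y))
  refine mem_of_regular hq ?_ hy
  have h1 : y⁻¹ * c ∈ K := QuotientGroup.eq.1 (hcy.symm)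
  have h2 := L.mul_mem (hCQ hc) (L.inv_mem (hKL h1))
  simpa using h2

/-- The setting of a constrained group. -/
theorem setting_of_constrained (hK : ¬ p ∣ Nat.card K) (hKL : K ≤ L)
    (hq : ∃ k, K.relIndex L = p ^ k) (hQL : Q ≤ L) (hQp : IsPGroup p Q)
    (hQi : ¬ p ∣ Q.relIndex L) (hCQ : Subgroup.centralizer (Q : Set G) ≤ L) :
    Setting p K L := by
  refine ⟨hK, hKL, hq, fun S hS y hy hreg => ?_⟩
  have hbot : L ⊓ Subgroup.centralizer ((⊥ : Subgroup G) : Set G) = L := by
    refine inf_eq_left.2 fun x _ => Subgroup.mem_centralizer_iff.2 fun u hu => ?_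
    rw [Subgroup.mem_bot.1 hu, one_mul, mul_one]
  refine mem_of_centralizes hK hKL hq hQL hQp hQi hCQ (R := ⊥) (S := S) IsPGroup.of_bot
    (hbot.symm ▸ hS.1) (hbot.symm ▸ hS.2.2) ?_ hy hreg
  refine Subgroup.mem_centralizer_iff.2 fun u hu => ?_
  rw [Subgroup.mem_bot.1 hu, one_mul, mul_one]

variable {M : Ideal AlgInt} [M.IsPrime] [Fintype K]

theorem invariant_of_coeff {X : Type u} [Group X] [Fintype X] {K' : Subgroup X} [hn : K'.Normal]
    [Fintype K'] (hM : Cfsg.IsPModular p M) (hK' : ¬ p ∣ Nat.card K') {β : IrrCharacter K'}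
    (h : ∀ (g : X) (k : K'), (Glauberman.idem hM hK' β : GA (Res M) K').coeff
      (MulAut.conjNormal (H := K') g k) = (Glauberman.idem hM hK' β : GA (Res M) K').coeff k) :
    Invariant K' β := by
  classical
  intro g k
  have heq : Glauberman.idem hM hK' (BlocksLocal.conjIrr K' β g) = Glauberman.idem hM hK' β := by
    refine ctr_ext fun x => ?_
    rw [← h g x, coeff_idem_eq, coeff_idem_eq, BlocksLocal.coe_conjIrr]
    simp only [OddOrderChar.conjBy_apply]
    congr 4
    simp
    rfl
  have h1 := congrArg (omegaBar M β) heq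
  rw [Glauberman.omegaBar_idem hM hK', Glauberman.omegaBar_idem hM hK', if_pos rfl] at h1
  split_ifs at h1 with hc
  · have h2 := congrFun (congrArg Subtype.val hc) k
    rw [BlocksLocal.coe_conjIrr, OddOrderChar.conjBy_apply] at h2
    exact h2.symm
  · exact absurd h1.symm one_ne_zero

/-- Exactly one block of the centralizer of a p-subgroup induces the block over `θ`. -/
theorem existsUnique_inducedBlock (hM : Cfsg.IsPModular p M) (hK : ¬ p ∣ Nat.card K) (hKL : K ≤ L)
    (hq : ∃ k, K.relIndex L = p ^ k) (hQL : Q ≤ L) (hQp : IsPGroup p Q)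
    (hQi : ¬ p ∣ Q.relIndex L) (hCQ : Subgroup.centralizer (Q : Set G) ≤ L) {θ : IrrCharacter K}
    (hθ : Invariant K θ) (R : Subgroup G) (hR : IsPGroup p R) :
    ∃! f : Set (IrrCharacter (Subgroup.centralizer (R : Set G))),
      Cfsg.IsInducedBlock M (Subgroup.centralizer (R : Set G)) f (overSet (X := G) θ) := by
  classical
  have hs := setting_of_constrained hK hKL hq hQL hQp hQi hCQ
  have hB := isPBlock_overSet hs hM hθ
  set C := Subgroup.centralizer (R : Set G) with hCdef
  haveI := Fintype.ofFinite C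
  let K' := K.subgroupOf C
  let L' := L.subgroupOf C
  haveI : K'.Normal := hKn.subgroupOf C
  haveI : L'.Normal := hLn.subgroupOf C
  haveI := Fintype.ofFinite K'
  -- the Glauberman correspondent
  have hnorm : ∀ s ∈ R, ∀ g ∈ K, s * g * s⁻¹ ∈ K := fun s _ g hg => hKn.conj_mem g hg s
  letI := Glauberman.conjAction K R hnorm
  let C₀ : Subgroup K := (K ⊓ C).subgroupOf K
  haveI := Fintype.ofFinite C₀
  have hC₀ : ∀ g, g ∈ C₀ ↔ ∀ s : R, s • g = g :=
    Glauberman.mem_centralizer_iff_fixed K R hnorm (K ⊓ C) rfl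
  have hinv : Glauberman.IsInv R (θ : K → ℂ) :=
    (Glauberman.isInv_conjAction_iff K R hnorm _).2 fun s _ g g' he => by
      rw [← hθ s g]
      exact congrArg (θ : K → ℂ) (Subtype.ext he)
  obtain ⟨β, hβ, -⟩ := Glauberman.existsUnique_rel hR hK C₀ hC₀ hinv
  have hbr := Glauberman.br_idem_eq hR hK C₀ hC₀ hM hinv
    ((Glauberman.rel_iff_bRel hR hK C₀ hC₀ hM hinv β).1 hβ)
  let e : K' ≃* C₀ :=
    { toFun := fun x => ⟨⟨((x : C) : G), Subgroup.mem_subgroupOf.1 x.2⟩,
        Subgroup.mem_subgroupOf.2 ⟨Subgroup.mem_subgroupOf.1 x.2, (x : C).2⟩⟩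
      invFun := fun x => ⟨⟨((x : K) : G), (Subgroup.mem_subgroupOf.1 x.2).2⟩,
        Subgroup.mem_subgroupOf.2 (x : K).2⟩
      left_inv := fun _ => rfl
      right_inv := fun _ => rfl
      map_mul' := fun _ _ => rfl }
  let β' : IrrCharacter K' := ⟨_, isIrr_comp_equiv e β⟩
  have hK' : ¬ p ∣ Nat.card K' := fun h => Glauberman.natCard_fixed_not_dvd hK C₀
    (Nat.card_congr e.toEquiv ▸ h)
  have hcoeff : ∀ x : K', (Glauberman.idem hM hK' β' : GA (Res M) K').coeff x =
      (eCtr hM hK hθ : GA (Res M) G).coeff ((x : C) : G) := by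
    intro x
    rw [coe_eCtr, coeff_emb_subtype _ (Subgroup.mem_subgroupOf.1 x.2)]
    have := congrArg (fun z : Ctr (Res M) C₀ => (z : GA (Res M) C₀).coeff (e x)) hbr
    rw [Glauberman.coeff_br] at this
    refine Eq.trans ?_ this.symm
    rw [coeff_idem_eq, coeff_idem_eq, Nat.card_congr e.toEquiv]
    simp only [β', map_one]
  have hβ' : Invariant K' β' := invariant_of_coeff hM hK' fun g k => by
    rw [hcoeff, hcoeff]
    simp only [MulAut.conjNormal_apply, Subgroup.coe_mul, InvMemClass.coe_inv]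
    exact coeff_conj_of_mem_ctr (eCtr hM hK hθ).2 _ _
  have hres : resCtr C (eCtr hM hK hθ) = eCtr hM hK' hβ' := ctr_ext fun h => by
    rw [coeff_resCtr]
    by_cases hh : h ∈ K'
    · rw [coe_eCtr hM hK' hβ', coeff_emb_subtype _ hh, hcoeff]
    · rw [coeff_eCtr_of_notMem hM hK' hβ' hh,
        coeff_eCtr_of_notMem hM hK hθ fun h' => hh (Subgroup.mem_subgroupOf.2 h')]
  -- `C(R)` satisfies the hypotheses
  have hs' : Setting p K' L' := by
    refine ⟨hK', fun x hx => hKL hx, ?_, fun S hS y hy hreg => ?_⟩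
    · obtain ⟨k, hk⟩ := hq
      have hdvd : K'.relIndex L' ∣ p ^ k := by
        rw [← hk, ← Subgroup.relIndex_map_map_of_injective K' L' C.subtype_injective]
        simp only [K', L', Subgroup.subgroupOf_map_subtype]
        have h1 : (K ⊓ C).relIndex (L ⊓ C) = K.relIndex (L ⊓ C) := by
          rw [← Subgroup.inf_relIndex_right (K ⊓ C), ← Subgroup.inf_relIndex_right K]
          congr 1
          rw [← inf_inf_distrib_right, inf_assoc]
        rw [h1, ← Subgroup.relIndex_subgroupOf (inf_le_left : L ⊓ C ≤ L)]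
        exact Subgroup.relIndex_dvd_index_of_normal _ _
      obtain ⟨i, -, hi⟩ := (Nat.dvd_prime_pow (Fact.out : p.Prime)).1 hdvd
      exact ⟨i, hi⟩
    · have hmap : L'.map C.subtype = L ⊓ C := Subgroup.subgroupOf_map_subtype L C
      refine Subgroup.mem_subgroupOf.2 (mem_of_centralizes hK hKL hq hQL hQp hQi hCQ
        (S := S.map C.subtype) hR ?_ ?_ y.2 ?_ ?_)
      · rw [← hmap]; exact Subgroup.map_mono hS.1
      · rw [← hmap, Subgroup.relIndex_map_map_of_injective _ _ C.subtype_injective]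
        exact hS.2.2
      · refine Subgroup.mem_centralizer_iff.2 ?_
        rintro _ ⟨u, hu, rfl⟩
        exact congrArg Subtype.val (Subgroup.mem_centralizer_iff.1 hy u hu)
      · simpa using hreg
  have hb := isPBlock_overSet hs' hM hβ'
  obtain ⟨ξ, hξ⟩ := isPBlock_nonempty hb
  haveI := charP_res hM
  have hbrh : ∀ a : Ctr (Res M) G, resCtr C a =
      brHom R C hR le_rfl (Subgroup.centralizer_le_normalizer _) a := fun a => ctr_ext fun h => by
    rw [coeff_resCtr, brHom_apply, coeff_brRes_of_mem _ _ h.2]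
  obtain ⟨B', hB'⟩ : Cfsg.InducedBlockDefined M C (overSet (X := C) β') :=
    (inducedBlockDefined_iff C hb hξ).2 fun a a' => by simp only [hbrh, map_mul]
  have hBB' : B' = overSet (X := G) θ := by
    obtain ⟨χ, hχ⟩ := isPBlock_nonempty hB'.2.1
    refine isPBlock_eq_of_mem hB'.2.1 hB hχ ?_
    have h := (isInducedBlock_iff C hb hB'.2.1 hξ hχ).1 hB' (eCtr hM hK hθ)
    rw [hres, omegaBar_eCtr, omegaBar_eCtr, if_pos (show Over K' β' ξ from hξ)] at h
    by_contra hn
    rw [if_neg (show ¬ Over K θ χ from hn)] at h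
    exact one_ne_zero h
  refine ⟨overSet (X := C) β', hBB' ▸ hB', fun f hf => ?_⟩
  obtain ⟨η, hη⟩ := isPBlock_nonempty hf.1
  obtain ⟨χ, hχ⟩ := isPBlock_nonempty hB
  refine isPBlock_eq_of_mem hf.1 hb hη ?_
  have h := (isInducedBlock_iff C hf.1 hB hη hχ).1 hf (eCtr hM hK hθ)
  rw [hres, omegaBar_eCtr, omegaBar_eCtr, if_pos (show Over K θ χ from hχ)] at h
  by_contra hn
  rw [if_neg (show ¬ Over K' β' η from hn)] at h
  exact zero_ne_one h

end CfsgLib.ConstrainedBlock
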