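import Cfsg.Agent.ConstrainedBlock.Idem
import Cfsg.Agent.BlocksCharsC.DetExtension
import Cfsg.Agent.CharactersDeep.ExtensionCriteria
import Cfsg.Agent.Blocks.Height
import Cfsg.Agent.BlocksLocal.Support

/-!
# Central characters over an invariant character, index prime to p above `O_{p',p}`

Extensions of an invariant character across a p-quotient, degree counts, and the vanishing of the
central characters over `θ` at p-regular classes of size divisible by `p` in groups `X` with a
normal `L` of index prime to `p`, `L/K` a p-group.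
-/

set_option autoImplicit false
set_option linter.unusedSectionVars false
set_option linter.style.haveILetI false

namespace CfsgLib.ConstrainedBlock

open Cfsg CfsgLib.Blocks
open CfsgLib.OddOrderChar (conjBy conjBy_apply)
open scoped ComplexConjugate

universe u

variable {X : Type u} [Group X] [Fintype X] {M : Ideal AlgInt} [M.IsPrime] {p : ℕ} [Fact p.Prime]
  {K : Subgroup X} [hKn : K.Normal] [Fintype K]

theorem isIrr_comp_equiv {A B : Type u} [Group A] [Group B] (e : A ≃* B) (θ : IrrCharacter B) :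
    Cfsg.IsIrrCharacter A (fun a => (θ : B → ℂ) (e a)) :=
  Characters.isIrr_comp e.toMonoidHom e.surjective θ.2

theorem detExp_natCard {A : Type u} [Group A] [Fintype A] {θ : A → ℂ}
    (hθ : Cfsg.IsIrrCharacter A θ) : BlocksCharsC.DetExp (Nat.card A) θ := by
  obtain ⟨n, ρ, -, h⟩ := hθ
  exact ⟨n, ρ, h, fun a => by rw [← map_pow, ← map_pow, pow_card_eq_one', map_one, map_one]⟩

theorem not_dvd_charDegree {A : Type u} [Group A] [Fintype A] (hA : ¬ p ∣ Nat.card A)
    (θ : IrrCharacter A) : ¬ p ∣ Cfsg.charDegree (θ : A → ℂ) :=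
  fun h => hA (h.trans (charDegree_dvd_card θ))

/-- An element of order prime to `p` of a group with a p-group quotient lies in the kernel. -/
theorem mem_of_regular {L : Subgroup X} (hq : ∃ k, K.relIndex L = p ^ k) {x : X} (hx : x ∈ L)
    (hreg : ¬ p ∣ orderOf x) : x ∈ K := by
  haveI := Fintype.ofFinite L
  haveI := Fintype.ofFinite (K.subgroupOf L)
  have h := BlocksLocal.mem_of_regular_of_pow_index (K.subgroupOf L) (p := p) hq (g := ⟨x, hx⟩)
    (by simpa using hreg)
  exact h

/-- The canonical extension of an invariant character to a subgroup above `K` with p-quotient. -/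
theorem exists_extension {θ : IrrCharacter K} (hθ : Invariant K θ) (hK : ¬ p ∣ Nat.card K)
    (L : Subgroup X) (hKL : K ≤ L) (hq : ∃ k, K.relIndex L = p ^ k) :
    ∃ η : IrrCharacter L, BlocksCharsC.DetExp (Nat.card K) (η : L → ℂ) ∧
      (∀ k : K, (η : L → ℂ) (Subgroup.inclusion hKL k) = (θ : K → ℂ) k) ∧
      ∀ η' : L → ℂ, BlocksCharsC.DetExp (Nat.card K) η' →
        (∀ k : K, η' (Subgroup.inclusion hKL k) = (θ : K → ℂ) k) → η' = (η : L → ℂ) := by
  classical
  haveI := Fintype.ofFinite L
  haveI := Fintype.ofFinite (K.subgroupOf L)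
  let e : K.subgroupOf L ≃* K := Subgroup.subgroupOfEquivOfLe hKL
  let θ' : IrrCharacter (K.subgroupOf L) := ⟨_, isIrr_comp_equiv e θ⟩
  have hq' : IsPGroup p (L ⧸ K.subgroupOf L) := by
    obtain ⟨k, hk⟩ := hq
    exact IsPGroup.of_card (n := k) hk
  have hinv : ∀ g : L, conjBy (K.subgroupOf L) (θ' : K.subgroupOf L → ℂ) g =
      (θ' : K.subgroupOf L → ℂ) := fun g => funext fun n => by
    rw [conjBy_apply]
    exact Eq.trans (congrArg (θ : K → ℂ) (Subtype.ext rfl)) (hθ (g : X) (e n))
  have hcard : Nat.card (K.subgroupOf L) = Nat.card K := Nat.card_congr e.toEquiv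
  have hdeg : ¬ p ∣ Cfsg.charDegree (θ' : K.subgroupOf L → ℂ) :=
    not_dvd_charDegree (by rwa [hcard]) θ'
  have hdet : BlocksCharsC.DetExp (Nat.card K) (θ' : K.subgroupOf L → ℂ) :=
    hcard ▸ detExp_natCard θ'.2
  obtain ⟨η, hη, hηd, hres, huniq⟩ := BlocksCharsC.exists_canonical
    (((Fact.out : p.Prime).coprime_iff_not_dvd.2 hK).symm) (K.subgroupOf L) hq' θ'.2 hdet hinv hdeg
  exact ⟨⟨η, hη⟩, hηd, fun k => (hres (e.symm k)).trans
      (congrArg (θ : K → ℂ) (e.apply_symm_apply k)),
    fun η' hd hr => huniq η' hd fun n => hr (e n)⟩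

/-- The canonical extension to a normal subgroup is invariant. -/
theorem exists_invariant_extension {θ : IrrCharacter K} (hθ : Invariant K θ)
    (hK : ¬ p ∣ Nat.card K) (L : Subgroup X) [hLn : L.Normal] (hKL : K ≤ L)
    (hq : ∃ k, K.relIndex L = p ^ k) :
    ∃ η : IrrCharacter L, (∀ k : K, (η : L → ℂ) (Subgroup.inclusion hKL k) = (θ : K → ℂ) k) ∧
      ∀ (g : X) (l : L), (η : L → ℂ) ⟨g * l * g⁻¹, hLn.conj_mem l l.2 g⟩ = (η : L → ℂ) l := by
  obtain ⟨η, hd, hres, huniq⟩ := exists_extension hθ hK L hKL hq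
  haveI := Fintype.ofFinite L
  refine ⟨η, hres, fun g l => ?_⟩
  have h := huniq _ (hd.comp (MulAut.conjNormal (H := L) g).toMonoidHom) fun k => by
    rw [← hθ g k, ← hres]
    exact congrArg (η : L → ℂ) (Subtype.ext (MulAut.conjNormal_apply g _))
  rw [← congrFun h l]
  exact congrArg (η : L → ℂ) (Subtype.ext (MulAut.conjNormal_apply g l).symm)

open Classical in
/-- Degree counts in a union of blocks only see `K` inside a subgroup whose p-regular elements lie
in `K`. -/
theorem sum_degree_classInner (hM : Cfsg.IsPModular p M) {A : Set (IrrCharacter X)}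
    (hA : IsBlockUnion M A) {θ : IrrCharacter K} {T : Subgroup X} [Fintype T] (hKT : K ≤ T)
    (hT : ∀ t ∈ T, ¬ p ∣ orderOf t → t ∈ K) {η : T → ℂ}
    (hη : ∀ k : K, η (Subgroup.inclusion hKT k) = (θ : K → ℂ) k) :
    (Nat.card T : ℂ) * ∑ χ : IrrCharacter X,
        (if χ ∈ A then (χ : X → ℂ) 1 * Cfsg.classInner (fun t : T => (χ : X → ℂ) t) η else 0) =
      (Nat.card K : ℂ) * ∑ χ : IrrCharacter X, (if χ ∈ A then
        (χ : X → ℂ) 1 * Cfsg.classInner (fun k : K => (χ : X → ℂ) k) (θ : K → ℂ) else 0) := by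
  set F : X → ℂ := fun x =>
    ∑ χ : IrrCharacter X, if χ ∈ A then (χ : X → ℂ) 1 * (χ : X → ℂ) x else 0 with hF
  have hFz : ∀ x : X, p ∣ orderOf x → F x = 0 := by
    intro x hx
    have h := BlocksLocal.blockCoeff_eq_zero_of_dvd hM hA (g := x⁻¹) (by rwa [orderOf_inv])
    rw [blockCoeff_eq_sum, mul_eq_zero] at h
    have h' := h.resolve_left (inv_ne_zero Characters.natCard_ne_zero)
    refine Eq.trans ?_ h'
    refine Finset.sum_congr rfl fun χ _ => ?_
    split_ifs with hχ
    · rw [← Characters.character_inv (Characters.isCharacter_of_isIrr χ.2) x⁻¹, inv_inv]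
    · rfl
  have key : ∀ (S : Subgroup X) [Fintype S] (φ : S → ℂ), (Nat.card S : ℂ) * ∑ χ : IrrCharacter X,
      (if χ ∈ A then (χ : X → ℂ) 1 * Cfsg.classInner (fun s : S => (χ : X → ℂ) s) φ else 0) =
      ∑ s : S, F s * conj (φ s) := by
    intro S _ φ
    simp only [hF, Cfsg.classInner, Finset.mul_sum, Finset.sum_mul]
    rw [Finset.sum_comm (s := (Finset.univ : Finset S))]
    refine Finset.sum_congr rfl fun χ _ => ?_
    split_ifs
    · rw [Finset.mul_sum]
      refine Finset.sum_congr rfl fun s _ => ?_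
      field_simp [Characters.natCard_ne_zero]
    · simp
  rw [key, key]
  refine (Fintype.sum_of_injective (Subgroup.inclusion hKT)
    (Subgroup.inclusion_injective hKT) _ _ (fun t ht => ?_) fun k => ?_).symm
  · by_cases hreg : p ∣ orderOf (t : X)
    · rw [hFz _ hreg, zero_mul]
    · exact absurd ⟨⟨t, hT t t.2 hreg⟩, rfl⟩ ht
  · rw [hη]; rfl

theorem memLocalRing_div_degree (hM : Cfsg.IsPModular p M) (χ : IrrCharacter X) (g : X)
    (h : ¬ p ∣ Cfsg.charDegree (χ : X → ℂ)) :
    Cfsg.MemLocalRing M ((χ : X → ℂ) g / (χ : X → ℂ) 1) := by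
  show _ ∈ localRing M
  rw [div_eq_mul_inv, ← charDegree_cast χ]
  exact Subring.mul_mem _ (memLocalRing_char χ g) (memLocalRing_natCast_inv hM h)

/-- The central characters over `θ` vanish at the p-regular classes of size divisible by `p`, when
`X` has a normal `L` of index prime to `p` with `L/K` a p-group. -/
theorem omegaBar_classSum_eq_zero (hM : Cfsg.IsPModular p M) (hK : ¬ p ∣ Nat.card K)
    {θ : IrrCharacter K} (hθ : Invariant K θ) (L : Subgroup X) [hLn : L.Normal] (hKL : K ≤ L)
    (hq : ∃ k, K.relIndex L = p ^ k) (hidx : ¬ p ∣ L.index) {ψ : IrrCharacter X}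
    (hψ : Over K θ ψ) {y : X} (hy : p ∣ (Subgroup.centralizer ({y} : Set X)).index) :
    omegaBar M ψ (classSum _ (ConjClasses.mk y)) = 0 := by
  classical
  haveI := Fintype.ofFinite L
  obtain ⟨η, hres, hinv⟩ := exists_invariant_extension hθ hK L hKL hq
  set A := Cfsg.blockOf M (ψ : X → ℂ) with hAdef
  have hnat : ∀ χ : IrrCharacter X,
      ∃ m : ℕ, Cfsg.classInner (fun k : K => (χ : X → ℂ) k) (θ : K → ℂ) = m := fun χ =>
    Characters.classInner_character_irr
      (Characters.isCharacter_restrict K (Characters.isCharacter_of_isIrr χ.2)) θ.2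
  obtain ⟨χ, hχA, hχ⟩ : ∃ χ ∈ A,
      Cfsg.classInner (fun l : L => (χ : X → ℂ) l) (η : L → ℂ) ≠ 0 := by
    by_contra hno
    simp only [not_exists, not_and, not_not] at hno
    have h := sum_degree_classInner hM (isBlockUnion_of_isPBlock (isPBlock_blockOf (M := M) ψ))
      (θ := θ) hKL (fun t ht hreg => mem_of_regular hq ht hreg) (η := (η : L → ℂ)) hres
    rw [Finset.sum_eq_zero fun χ _ => ?_, mul_zero, eq_comm, mul_eq_zero] at h
    swap
    · split_ifs with hχ
      · rw [hno χ hχ, mul_zero]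
      · rfl
    choose m hm using hnat
    choose d hd0 hd using fun χ : IrrCharacter X => Characters.exists_degree_pos χ.2
    have h' := h.resolve_left Characters.natCard_ne_zero
    have h'' : ∑ χ : IrrCharacter X, (if χ ∈ A then d χ * m χ else 0) = 0 := by
      apply Nat.cast_injective (R := ℂ)
      rw [Nat.cast_zero, ← h']
      push_cast
      refine Finset.sum_congr rfl fun χ _ => ?_
      rw [hd, hm]
    have := Finset.sum_eq_zero_iff.1 h'' ψ (Finset.mem_univ _)
    rw [if_pos (show ψ ∈ A from mem_blockOf_self ψ), Nat.mul_eq_zero,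
      or_iff_right (hd0 ψ).ne'] at this
    exact hψ (by rw [hm ψ, this, Nat.cast_zero])
  obtain ⟨e, he0, he, -⟩ := CharactersDeep.Clifford.restrict_eq_smul L χ.2 η.2
    (fun g => funext fun l => by rw [conjBy_apply]; exact hinv g l) hχ
  have hedvd := CharactersDeep.ExtensionCriteria.ramification_dvd_index L η.2 hinv χ.2 he0 he
  have hη1 : (η : L → ℂ) 1 = (θ : K → ℂ) 1 := by
    rw [← hres 1]; rfl
  have hdeg : ¬ p ∣ Cfsg.charDegree (χ : X → ℂ) := by
    have h1 := congrFun he 1
    simp only [OneMemClass.coe_one, Pi.smul_apply, smul_eq_mul, hη1] at h1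
    rw [← charDegree_cast θ, ← Nat.cast_mul, ← charDegree_cast χ, Nat.cast_inj] at h1
    rw [h1, (Fact.out : p.Prime).dvd_mul]
    exact fun h => h.elim (fun h => hidx (h.trans hedvd)) (not_dvd_charDegree hK θ)
  rw [(sameBlock_iff ψ χ).1 hχA, omegaBar_classSum, red_eq_zero_iff]
  show Cfsg.MemLocalIdeal M (Cfsg.centralChar (χ : X → ℂ) y)
  rw [Cfsg.centralChar, mul_div_assoc]
  exact memLocalIdeal_mul_right ((memLocalIdeal_natCast_iff hM _).2 hy)
    (memLocalRing_div_degree hM χ y hdeg)

end CfsgLib.ConstrainedBlock
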