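import Cfsg.Agent.BlocksLocal.Covering
import Cfsg.Agent.BlockPairs.Bridge
import Cfsg.Agent.Glauberman.Correspondence

/-!
# The idempotent of an invariant character of a normal subgroup of order prime to p

For a normal `p'`-subgroup `K` of `X` and an invariant irreducible character `θ` of `K`, the
idempotent of `θ` is central in the group algebra of `X` over the residue field; its central
characters are the indicator of the characters over `θ`.
-/

set_option autoImplicit false
set_option linter.unusedSectionVars false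
set_option linter.style.haveILetI false

namespace CfsgLib.ConstrainedBlock

open Cfsg CfsgLib.Blocks
open CfsgLib.BlockPairs (GA emb emb_coeff_apply emb_coeff_not_mem emb_scalar ga_ext)
open scoped ComplexConjugate

universe u

variable {X : Type u} [Group X] {M : Ideal AlgInt} [M.IsPrime] {p : ℕ}
  (K : Subgroup X) [hKn : K.Normal] [Fintype K]

/-- Invariance of a character of a normal subgroup under the whole group. -/
def Invariant (θ : IrrCharacter K) : Prop :=
  ∀ (g : X) (k : K), (θ : K → ℂ) ⟨g * k * g⁻¹, hKn.conj_mem k k.2 g⟩ = (θ : K → ℂ) k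

/-- `χ` lies over `θ`. -/
def Over (θ : IrrCharacter K) [Fintype X] (χ : IrrCharacter X) : Prop :=
  Cfsg.classInner (fun k : K => (χ : X → ℂ) k) (θ : K → ℂ) ≠ 0

variable {K}
variable (hM : Cfsg.IsPModular p M) (hK : ¬ p ∣ Nat.card K) {θ : IrrCharacter K}

/-- The coefficients of the idempotent of a character. -/
theorem coeff_idem_eq {A : Type*} [Group A] [Fintype A] (hM : Cfsg.IsPModular p M)
    (hA : ¬ p ∣ Nat.card A) (θ : IrrCharacter A) (k : A) :
    (Glauberman.idem hM hA θ : GA (Res M) A).coeff k =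
      BlockPairs.redC M ((Nat.card A : ℂ)⁻¹ * ((θ : A → ℂ) 1 * conj ((θ : A → ℂ) k))) := by
  have hmem := memLocalRing_blockCoeff (Glauberman.isBlockUnion_singleton hM hA θ) k
  have he : Cfsg.blockCoeff ({θ} : Set (IrrCharacter A)) k =
      (Nat.card A : ℂ)⁻¹ * ((θ : A → ℂ) 1 * conj ((θ : A → ℂ) k)) := by
    rw [Cfsg.blockCoeff, finsum_mem_singleton]
  rw [Glauberman.idem, coeff_idemBar, ← he, BlockPairs.redC_of_mem hmem]

theorem coeff_idem_conj (hθ : Invariant K θ) (g : X) (k : K) :
    (Glauberman.idem hM hK θ : GA (Res M) K).coeff (MulAut.conjNormal (H := K) g k) =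
      (Glauberman.idem hM hK θ : GA (Res M) K).coeff k := by
  rw [coeff_idem_eq, coeff_idem_eq, ← hθ g k]
  congr 4

theorem coeff_emb_subtype (a : GA (Res M) K) {x : X} (hx : x ∈ K) :
    (emb K.subtype a).coeff x = a.coeff ⟨x, hx⟩ :=
  emb_coeff_apply K.subtype_injective a ⟨x, hx⟩

/-- The idempotent of `θ` in the centre of the group algebra of `X`. -/
noncomputable def eCtr (hθ : Invariant K θ) : Ctr (Res M) X :=
  ⟨emb K.subtype (Glauberman.idem hM hK θ : GA (Res M) K), mem_ctr_iff.2 fun x g => by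
    by_cases hx : x ∈ K
    · rw [coeff_emb_subtype _ hx, coeff_emb_subtype _ (hKn.conj_mem x hx g),
        ← coeff_idem_conj hM hK hθ g ⟨x, hx⟩]
      exact congrArg _ (Subtype.ext (MulAut.conjNormal_apply g ⟨x, hx⟩).symm)
    · have hgx : g * x * g⁻¹ ∉ K :=
        fun h => hx (by simpa [mul_assoc] using hKn.conj_mem' _ h g)
      rw [emb_coeff_not_mem _ _ (by rwa [K.range_subtype]),
        emb_coeff_not_mem _ _ (by rwa [K.range_subtype])]⟩

variable (hθ : Invariant K θ)

theorem coe_eCtr : (eCtr hM hK hθ : GA (Res M) X) =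
    emb K.subtype (Glauberman.idem hM hK θ : GA (Res M) K) := rfl

theorem coeff_eCtr_of_notMem {x : X} (hx : x ∉ K) :
    (eCtr hM hK hθ : GA (Res M) X).coeff x = 0 :=
  emb_coeff_not_mem _ _ (by rwa [K.range_subtype])

theorem coeff_eCtr_of_mem {x : X} (hx : x ∈ K) : (eCtr hM hK hθ : GA (Res M) X).coeff x =
    BlockPairs.redC M ((Nat.card K : ℂ)⁻¹ * ((θ : K → ℂ) 1 * conj ((θ : K → ℂ) ⟨x, hx⟩))) := by
  rw [coe_eCtr, coeff_emb_subtype _ hx, coeff_idem_eq]

theorem eCtr_mul_self : eCtr hM hK hθ * eCtr hM hK hθ = eCtr hM hK hθ :=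
  Subtype.ext (by
    rw [Subring.coe_mul, coe_eCtr, ← map_mul, ← Subring.coe_mul, Glauberman.idem_sq])

variable [Fintype X]

theorem resCtr_eCtr_self : resCtr K (eCtr hM hK hθ) = Glauberman.idem hM hK θ :=
  ctr_ext fun k => by rw [coeff_resCtr, coe_eCtr, coeff_emb_subtype _ k.2]

open Classical in
/-- The central characters of the idempotent of `θ`. -/
theorem omegaBar_eCtr (χ : IrrCharacter X) :
    omegaBar M χ (eCtr hM hK hθ) = if Over K θ χ then 1 else 0 := by
  have hsupp : ∀ g : X, g ∉ K → (eCtr hM hK hθ : GA (Res M) X).coeff g = 0 :=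
    fun g hg => coeff_eCtr_of_notMem hM hK hθ hg
  by_cases h : Over K θ χ
  · rw [BlocksLocal.omegaBar_eq_of_covers K h _ hsupp, resCtr_eCtr_self,
      Glauberman.omegaBar_idem hM hK, if_pos rfl, if_pos h]
  · obtain ⟨ψ, hψ⟩ := BlocksLocal.exists_constituent K χ
    rw [BlocksLocal.omegaBar_eq_of_covers K hψ _ hsupp, resCtr_eCtr_self,
      Glauberman.omegaBar_idem hM hK, if_neg h, if_neg fun he => h (by rwa [he] at hψ)]

/-- Central elements act on the idempotent of `θ` through the central character of `θ`. -/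
theorem emb_mul_eCtr (z : Ctr (Res M) K) :
    emb K.subtype (z : GA (Res M) K) * (eCtr hM hK hθ : GA (Res M) X) =
      omegaBar M θ z • (eCtr hM hK hθ : GA (Res M) X) := by
  rw [coe_eCtr, ← map_mul, ← Subring.coe_mul, Glauberman.mul_idem hM hK, Subring.coe_mul,
    map_mul, emb_scalar, smul_mul_assoc, one_mul]

/-- Restricted to an intermediate group, the idempotent is the idempotent of that group. -/
theorem resCtr_eCtr (H : Subgroup X) [Fintype H] {K' : Subgroup H} [hK'n : K'.Normal] [Fintype K']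
    {θ' : IrrCharacter K'} (hK' : ¬ p ∣ Nat.card K') (hθ' : Invariant K' θ')
    (hmem : ∀ h : H, h ∈ K' ↔ (h : X) ∈ K) (hcard : Nat.card K' = Nat.card K)
    (hval : ∀ (h : H) (h' : h ∈ K') (hx : (h : X) ∈ K),
      (θ' : K' → ℂ) ⟨h, h'⟩ = (θ : K → ℂ) ⟨h, hx⟩) :
    resCtr H (eCtr hM hK hθ) = eCtr hM hK' hθ' :=
  ctr_ext fun h => by
    rw [coeff_resCtr]
    by_cases hh : (h : X) ∈ K
    · rw [coeff_eCtr_of_mem hM hK hθ hh, coeff_eCtr_of_mem hM hK' hθ' ((hmem h).2 hh), hcard,
        hval h ((hmem h).2 hh) hh]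
      congr 3
      exact (hval 1 K'.one_mem K.one_mem).symm
    · rw [coeff_eCtr_of_notMem hM hK hθ hh, coeff_eCtr_of_notMem hM hK' hθ' (mt (hmem h).1 hh)]

end CfsgLib.ConstrainedBlock
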