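import Cfsg.Agent.BlockPairs.Block
import Mathlib.RingTheory.Artinian.Module

/-!
# Minimal submodules under a subgroup

A graded element commuting with a subgroup `L` and with its degree, and nilpotent on a minimal
`L`-stable subspace, kills it.
-/

set_option autoImplicit false
set_option linter.unusedSectionVars false

namespace CfsgLib.ConstrainedBlock

open CfsgLib.BlockPairs (GA IsSupp)
open MonoidAlgebra (single)

variable {F : Type*} [Field F] {G : Type*} [Group G] [Finite G]

/-- A subspace stable under left multiplication by the elements of `L`. -/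
def Stable (L : Subgroup G) (S : Submodule F (GA F G)) : Prop :=
  ∀ l ∈ L, ∀ s ∈ S, single l (1 : F) * s ∈ S

/-- A minimal nonzero stable subspace. -/
def IsMinimalStable (L : Subgroup G) (S : Submodule F (GA F G)) : Prop :=
  S ≠ ⊥ ∧ Stable L S ∧ ∀ T ≤ S, Stable L T → T = ⊥ ∨ T = S

theorem exists_isMinimalStable (L : Subgroup G) {W : Submodule F (GA F G)} (hW : W ≠ ⊥)
    (hst : Stable L W) : ∃ S ≤ W, IsMinimalStable L S := by
  obtain ⟨S, ⟨hS0, hSW, hSs⟩, hmin⟩ := IsArtinian.set_has_minimal
    {T : Submodule F (GA F G) | T ≠ ⊥ ∧ T ≤ W ∧ Stable L T} ⟨W, hW, le_rfl, hst⟩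
  refine ⟨S, hSW, hS0, hSs, fun T hT hTs => or_iff_not_imp_left.2 fun hT0 => ?_⟩
  by_contra hne
  exact hmin T ⟨hT0, hT.trans hSW, hTs⟩ (lt_of_le_of_ne hT hne)

theorem Stable.mul_mem {L : Subgroup G} {S : Submodule F (GA F G)} (hS : Stable L S) {b : GA F G}
    (hb : IsSupp L b) {s : GA F G} (hs : s ∈ S) : b * s ∈ S := by
  classical
  cases nonempty_fintype G
  have hb' : b = ∑ x : G, b.coeff x • single x (1 : F) := BlockPairs.ga_ext fun g => by
    rw [MonoidAlgebra.coeff_sum, Finsupp.finsetSum_apply, Finset.sum_eq_single g]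
    · simp
    · intro y _ hy; simp [hy]
    · simp
  rw [hb', Finset.sum_mul]
  refine Submodule.sum_mem _ fun x _ => ?_
  rw [smul_mul_assoc]
  by_cases hx : b.coeff x = 0
  · rw [hx, zero_smul]; exact zero_mem _
  · exact S.smul_mem _ (hS x (hb x hx) s hs)

theorem single_mul_cancel (g : G) (x : GA F G) :
    single g⁻¹ (1 : F) * (single g 1 * x) = x := by
  rw [← mul_assoc, MonoidAlgebra.single_mul_single, inv_mul_cancel, mul_one,
    ← MonoidAlgebra.one_def, one_mul]

/-- An element `g * b`, commuting with `L` and `g` and nilpotent on a minimal stable subspace,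
kills it. -/
theorem IsMinimalStable.mul_eq_zero {L : Subgroup G} {S : Submodule F (GA F G)}
    (hS : IsMinimalStable L S) {a b : GA F G} {g : G} (ha : a = single g 1 * b) (hb : IsSupp L b)
    (hL : ∀ l ∈ L, Commute (single l (1 : F)) a) (hg : Commute (single g (1 : F)) a) {n : ℕ}
    (hn : ∀ s ∈ S, a ^ n * s = 0) : ∀ s ∈ S, a * s = 0 := by
  classical
  let T : Submodule F (GA F G) := S ⊓ LinearMap.ker (LinearMap.mulLeft F a)
  have hTs : Stable L T := by
    intro l hl s hs
    have h2 : a * s = 0 := hs.2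
    exact ⟨hS.2.1 l hl s hs.1, show a * (single l (1 : F) * s) = 0 by
      rw [← mul_assoc, ← (hL l hl).eq, mul_assoc, h2, mul_zero]⟩
  rcases hS.2.2 T inf_le_left hTs with hT | hT
  swap
  · intro s hs
    exact (show s ∈ T by rw [hT]; exact hs).2
  exfalso
  have hinj : ∀ s ∈ S, s ≠ 0 → b * s ≠ 0 := fun s hs hs0 h => hs0 ((Submodule.eq_bot_iff T).1 hT s
    ⟨hs, show a * s = 0 by rw [ha, mul_assoc, h, mul_zero]⟩)
  obtain ⟨s, hs, hs0⟩ := (Submodule.ne_bot_iff S).1 hS.1
  have hb' : ∀ j : ℕ, b ^ j * s ∈ S ∧ b ^ j * s ≠ 0 := by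
    intro j
    induction j with
    | zero => simpa using And.intro hs hs0
    | succ j ih =>
      rw [pow_succ', mul_assoc]
      exact ⟨hS.2.1.mul_mem hb ih.1, hinj _ ih.1 ih.2⟩
  have hpow : ∀ j : ℕ, a ^ j * s = single (g ^ j) (1 : F) * (b ^ j * s) := by
    intro j
    induction j with
    | zero => simp [← MonoidAlgebra.one_def]
    | succ j ih =>
      have hc : a * single (g ^ j) (1 : F) = single (g ^ j) (1 : F) * a := by
        have := (hg.pow_left j).eq
        rw [MonoidAlgebra.single_pow, one_pow] at this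
        exact this.symm
      calc a ^ (j + 1) * s = a * (a ^ j * s) := by rw [pow_succ', mul_assoc]
        _ = a * single (g ^ j) (1 : F) * (b ^ j * s) := by rw [ih, mul_assoc]
        _ = single (g ^ j) (1 : F) * single g 1 * (b * (b ^ j * s)) := by
            rw [hc, ha]; simp only [mul_assoc]
        _ = single (g ^ (j + 1)) (1 : F) * (b ^ (j + 1) * s) := by
            rw [MonoidAlgebra.single_mul_single, one_mul, ← pow_succ, pow_succ' b, mul_assoc]
  refine (hb' n).2 ?_
  rw [← single_mul_cancel (g ^ n) (b ^ n * s), ← hpow, hn s hs, mul_zero]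

end CfsgLib.ConstrainedBlock
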