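import Cfsg.Agent.ConstrainedBlock.Local
import Cfsg.Agent.ConstrainedBlock.Module
import Cfsg.Agent.Blocks.Defect

/-!
# One block over an invariant character

In a group with normal subgroups `K ≤ L`, `K` of order prime to `p`, `L/K` a p-group, in which the
p-regular elements centralizing a Sylow subgroup of `L` lie in `K`, the irreducible characters over
an invariant irreducible character of `K` form one block, of full defect.
-/

set_option autoImplicit false
set_option linter.unusedSectionVars false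
set_option linter.style.haveILetI false

namespace CfsgLib.ConstrainedBlock

open Cfsg CfsgLib.Blocks
open CfsgLib.BlockPairs (GA emb emb_coeff_apply emb_coeff_not_mem ga_ext)
open MonoidAlgebra (single)
open scoped ComplexConjugate

universe u

/-- The hypotheses on `K ≤ L`. -/
structure Setting (p : ℕ) {X : Type u} [Group X] (K L : Subgroup X) : Prop where
  hK : ¬ p ∣ Nat.card K
  hKL : K ≤ L
  hq : ∃ k, K.relIndex L = p ^ k
  hgood : ∀ S : Subgroup X, IsSylowIn p L S → ∀ y ∈ Subgroup.centralizer (S : Set X),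
    ¬ p ∣ orderOf y → y ∈ K

variable {X : Type u} [Group X] [Fintype X] {M : Ideal AlgInt} [M.IsPrime] {p : ℕ} [Fact p.Prime]
  {K L : Subgroup X} [hKn : K.Normal] [Fintype K] [hLn : L.Normal]
  (hs : Setting p K L) (hM : Cfsg.IsPModular p M) {θ : IrrCharacter K} (hθ : Invariant K θ)

theorem commute_single_of_coeff {a : GA (Res M) X} {h : X}
    (ha : ∀ x : X, a.coeff (h * x * h⁻¹) = a.coeff x) : Commute (single h (1 : Res M)) a := by
  refine ga_ext fun x => ?_
  rw [MonoidAlgebra.coeff_single_mul_apply, MonoidAlgebra.coeff_mul_single_apply, one_mul, mul_one,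
    ← ha (h⁻¹ * x)]
  congr 1
  group

include hs hM hθ in
/-- A coset part, off `L`, of a central element supported on p-regular elements kills every minimal
`L`-stable subspace fixed by the idempotent of `θ`. -/
theorem coset_mul_eq_zero {S : Submodule (Res M) (GA (Res M) X)} (hS : IsMinimalStable L S)
    (heS : ∀ s ∈ S, (eCtr hM hs.hK hθ : GA (Res M) X) * s = s) {g : X} (hg : g ∉ L)
    (hgreg : ¬ p ∣ orderOf g) {a : GA (Res M) X}
    (hsupp : ∀ x, a.coeff x ≠ 0 → (QuotientGroup.mk x : X ⧸ L) = QuotientGroup.mk g ∧ ¬ p ∣ orderOf x)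
    (hconj : ∀ h ∈ L ⊔ Subgroup.zpowers g, ∀ x, a.coeff (h * x * h⁻¹) = a.coeff x) :
    ∀ s ∈ S, a * s = 0 := by
  classical
  set H := L ⊔ Subgroup.zpowers g with hHdef
  haveI := Fintype.ofFinite H
  have hLH : L ≤ H := le_sup_left
  have hgH : g ∈ H := Subgroup.mem_sup_right (Subgroup.mem_zpowers g)
  have hKH : K ≤ H := hs.hKL.trans hLH
  have hxH : ∀ x, a.coeff x ≠ 0 → x ∈ H := fun x hx => by
    have := QuotientGroup.eq.1 (hsupp x hx).1.symm
    simpa using H.mul_mem hgH (hLH this)
  -- the subgroups inside `H`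
  let K' := K.subgroupOf H
  let L' := L.subgroupOf H
  haveI : K'.Normal := hKn.subgroupOf H
  haveI : L'.Normal := hLn.subgroupOf H
  haveI := Fintype.ofFinite K'
  let eK : K' ≃* K := Subgroup.subgroupOfEquivOfLe hKH
  let θ' : IrrCharacter K' := ⟨_, isIrr_comp_equiv eK θ⟩
  have hθ' : Invariant K' θ' := fun h k => by
    refine Eq.trans ?_ (hθ (h : X) (eK k))
    exact congrArg (θ : K → ℂ) (Subtype.ext rfl)
  have hcardK : Nat.card K' = Nat.card K := Nat.card_congr eK.toEquiv
  have hK' : ¬ p ∣ Nat.card K' := by rw [hcardK]; exact hs.hK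
  have hres : resCtr H (eCtr hM hs.hK hθ) = eCtr hM hK' hθ' :=
    resCtr_eCtr hM hs.hK hθ H hK' hθ' (fun _ => Subgroup.mem_subgroupOf) hcardK
      fun h h' hx => congrArg (θ : K → ℂ) (Subtype.ext rfl)
  have hidx : ¬ p ∣ L'.index := by
    have h1 : L.relIndex H = Nat.card (H.map (QuotientGroup.mk' L)) := by
      rw [← Subgroup.relIndex_ker, QuotientGroup.ker_mk']
    have hbot : L.map (QuotientGroup.mk' L) = ⊥ := by simp
    rw [show L'.index = L.relIndex H from rfl, h1, hHdef, Subgroup.map_sup, hbot, bot_sup_eq,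
      MonoidHom.map_zpowers, Nat.card_zpowers]
    exact fun hd => hgreg (hd.trans (orderOf_map_dvd _ g))
  have hq' : ∃ k, K'.relIndex L' = p ^ k := by
    obtain ⟨k, hk⟩ := hs.hq
    exact ⟨k, by rw [Subgroup.relIndex_subgroupOf hLH, hk]⟩
  -- classes of the support have size divisible by `p`
  have hclass : ∀ y : H, a.coeff (y : X) ≠ 0 →
      p ∣ (Subgroup.centralizer ({y} : Set H)).index := by
    intro y hy
    by_contra hnd
    obtain ⟨S0, hS0, -⟩ := exists_isSylowIn_ge (p := p) (Q := ⊥)
      (K := Subgroup.centralizer ({y} : Set H)) IsPGroup.of_bot bot_le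
    have hS0i : ¬ p ∣ S0.index := by
      rw [← Subgroup.relIndex_mul_index hS0.1, (Fact.out : p.Prime).dvd_mul]
      exact fun h => h.elim hS0.2.2 hnd
    have hS0L : S0 ≤ L' := by
      intro u hu
      rw [← QuotientGroup.eq_one_iff, ← orderOf_eq_one_iff]
      obtain ⟨m, hm⟩ := hS0.2.1 ⟨u, hu⟩
      have hd1 : orderOf (u : H ⧸ L') ∣ p ^ m := by
        refine (orderOf_map_dvd (QuotientGroup.mk' L') u).trans (orderOf_dvd_of_pow_eq_one ?_)
        exact congrArg Subtype.val hm
      have hd2 : orderOf (u : H ⧸ L') ∣ L'.index := by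
        rw [Subgroup.index_eq_card]; exact orderOf_dvd_natCard _
      exact Nat.Coprime.eq_one_of_dvd (Nat.Coprime.of_dvd_left hd1
        (((Fact.out : p.Prime).coprime_iff_not_dvd.2 hidx).pow_left m)) hd2
    have hsyl : IsSylowIn p L (S0.map H.subtype) := by
      refine ⟨(Subgroup.map_mono hS0L).trans (Subgroup.map_subgroupOf_eq_of_le hLH).le,
        hS0.2.1.map _, fun hd => hS0i ?_⟩
      rw [← Subgroup.map_subgroupOf_eq_of_le hLH,
        Subgroup.relIndex_map_map_of_injective _ _ H.subtype_injective] at hd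
      rw [← Subgroup.relIndex_mul_index hS0L]
      exact dvd_mul_of_dvd_left hd _
    have hyK : (y : X) ∈ K := hs.hgood _ hsyl (y : X) (Subgroup.mem_centralizer_iff.2 (by
      rintro _ ⟨u, hu, rfl⟩
      exact congrArg Subtype.val (Subgroup.mem_centralizer_singleton_iff.1 (hS0.1 hu))))
      (hsupp _ hy).2
    refine hg ((QuotientGroup.eq_one_iff g).1 ?_)
    rw [← (hsupp _ hy).1]
    exact (QuotientGroup.eq_one_iff (y : X)).2 (hs.hKL hyK)
  -- the element of the centre of `H`
  let aH : Ctr (Res M) H := ⟨Blocks.ofFun fun h : H => a.coeff (h : X),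
    mem_ctr_iff.2 fun x h => by simpa using hconj (h : X) h.2 (x : X)⟩
  have haH : emb H.subtype (aH : GA (Res M) H) = a := ga_ext fun x => by
    by_cases hx : x ∈ H
    · rw [show x = H.subtype ⟨x, hx⟩ from rfl, emb_coeff_apply H.subtype_injective]
      simp [aH]
    · rw [emb_coeff_not_mem _ _ (by rwa [H.range_subtype])]
      exact not_not.1 fun h => hx (hxH x (Ne.symm h))
  have heH : emb H.subtype (resCtr H (eCtr hM hs.hK hθ) : GA (Res M) H) =
      (eCtr hM hs.hK hθ : GA (Res M) X) := ga_ext fun x => by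
    by_cases hx : x ∈ H
    · rw [show x = H.subtype ⟨x, hx⟩ from rfl, emb_coeff_apply H.subtype_injective]
      simp
    · rw [emb_coeff_not_mem _ _ (by rwa [H.range_subtype]),
        coeff_eCtr_of_notMem hM hs.hK hθ fun h => hx (hKH h)]
  have hnil : IsNilpotent (aH * resCtr H (eCtr hM hs.hK hθ)) := by
    refine isNilpotent_of_omegaBar_eq_zero _ fun ψ => ?_
    rw [map_mul, hres, omegaBar_eCtr hM hK' hθ']
    split_ifs with hover
    · rw [mul_one]
      haveI := Fintype.ofFinite (ConjClasses H)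
      rw [eq_sum_classSum aH, map_sum]
      refine Finset.sum_eq_zero fun C _ => ?_
      obtain ⟨y, rfl⟩ := ConjClasses.mk_surjective C
      rw [map_mul, omegaBar_scalar, classCoeff_mk]
      by_cases hy : a.coeff (y : X) = 0
      · simp [aH, hy]
      · rw [omegaBar_classSum_eq_zero hM hK' hθ' L' (fun x hx => hs.hKL hx) hq' hidx hover
          (hclass y hy), mul_zero]
    · rw [mul_zero]
  obtain ⟨n, hn⟩ := hnil
  have hn' : (a * (eCtr hM hs.hK hθ : GA (Res M) X)) ^ n = 0 := by
    have := congrArg (fun z : Ctr (Res M) H => emb H.subtype (z : GA (Res M) H)) hn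
    simpa [SubmonoidClass.coe_pow, haH, heH] using this
  have hcomm : Commute a (eCtr hM hs.hK hθ : GA (Res M) X) :=
    Subring.mem_center_iff.1 (eCtr hM hs.hK hθ).2 a
  refine hS.mul_eq_zero (g := g) (b := single g⁻¹ 1 * a) (n := n) ?_ ?_ ?_ ?_ fun s hsS => ?_
  · rw [← mul_assoc, MonoidAlgebra.single_mul_single, mul_inv_cancel, mul_one,
      ← MonoidAlgebra.one_def, one_mul]
  · intro x hx
    rw [MonoidAlgebra.coeff_single_mul_apply, one_mul, inv_inv] at hx
    have := QuotientGroup.eq.1 (hsupp _ hx).1.symm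
    simpa using this
  · exact fun l hl => commute_single_of_coeff fun x => hconj l (hLH hl) x
  · exact commute_single_of_coeff fun x => hconj g hgH x
  · have he : (eCtr hM hs.hK hθ : GA (Res M) X) ^ n * s = s := by
      clear hn hn'
      induction n with
      | zero => rw [pow_zero, one_mul]
      | succ m ih => rw [pow_succ, mul_assoc, heS s hsS, ih]
    rw [← he, ← mul_assoc, ← hcomm.mul_pow, hn', zero_mul]

include hs hM hθ in
/-- A central element supported on p-regular elements acts on a minimal `L`-stable subspace fixed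
by the idempotent of `θ` through the central character of `θ`. -/
theorem mul_eq_smul {S : Submodule (Res M) (GA (Res M) X)} (hS : IsMinimalStable L S)
    (heS : ∀ s ∈ S, (eCtr hM hs.hK hθ : GA (Res M) X) * s = s) (z : Ctr (Res M) X)
    (hz : ∀ g, (z : GA (Res M) X).coeff g ≠ 0 → ¬ p ∣ orderOf g) :
    ∀ s ∈ S, (z : GA (Res M) X) * s = omegaBar M θ (resCtr K z) • s := by
  classical
  haveI := Fintype.ofFinite (X ⧸ L)
  let piece : X ⧸ L → GA (Res M) X := fun q =>
    Blocks.ofFun fun x => if (QuotientGroup.mk x : X ⧸ L) = q then (z : GA (Res M) X).coeff x else 0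
  have hsum : (z : GA (Res M) X) = ∑ q, piece q := ga_ext fun x => by
    rw [MonoidAlgebra.coeff_sum, Finsupp.finsetSum_apply,
      Finset.sum_eq_single (QuotientGroup.mk x : X ⧸ L)]
    · simp [piece]
    · intro q _ hq; simp [piece, Ne.symm hq]
    · simp
  have hone : piece 1 = emb K.subtype (resCtr K z : GA (Res M) K) := ga_ext fun x => by
    by_cases hx : x ∈ K
    · rw [coeff_emb_subtype _ hx, coeff_resCtr]
      simp [piece, hs.hKL hx]
    · rw [emb_coeff_not_mem _ _ (by rwa [K.range_subtype])]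
      simp only [piece, coeff_ofFun]
      split_ifs with h
      · by_contra hne
        exact hx (mem_of_regular hs.hq ((QuotientGroup.eq_one_iff x).1 h) (hz x hne))
      · rfl
  intro s hsS
  rw [hsum, Finset.sum_mul, Finset.sum_eq_single (1 : X ⧸ L)]
  · conv_lhs => rw [← heS s hsS, ← mul_assoc, hone, emb_mul_eCtr hM hs.hK hθ, smul_mul_assoc,
      heS s hsS]
  · intro q _ hq
    by_cases h0 : piece q = 0
    · rw [h0, zero_mul]
    obtain ⟨g, hg⟩ : ∃ g, (piece q).coeff g ≠ 0 := by
      by_contra hno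
      simp only [not_exists, not_not] at hno
      exact h0 (ga_ext fun x => by rw [hno x]; simp)
    simp only [piece, coeff_ofFun, ne_eq, ite_eq_right_iff, Classical.not_imp] at hg
    obtain ⟨hgq, hgz⟩ := hg
    refine coset_mul_eq_zero hs hM hθ hS heS (g := g)
      (fun h => hq (hgq.symm.trans ((QuotientGroup.eq_one_iff g).2 h))) (hz g hgz) ?_ ?_ s hsS
    · intro x hx
      simp only [piece, coeff_ofFun, ne_eq, ite_eq_right_iff, Classical.not_imp] at hx
      exact ⟨hx.1.trans hgq.symm, hz x hx.2⟩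
    · intro h hh x
      have hc : ∀ y ∈ L ⊔ Subgroup.zpowers g, Commute (QuotientGroup.mk' L y) q := by
        intro y hy
        have : L ⊔ Subgroup.zpowers g ≤
            (Subgroup.centralizer ({q} : Set (X ⧸ L))).comap (QuotientGroup.mk' L) := by
          refine sup_le (fun l hl => ?_) ((Subgroup.zpowers_le).2 ?_)
          · rw [Subgroup.mem_comap, QuotientGroup.mk'_apply, (QuotientGroup.eq_one_iff l).2 hl]
            exact one_mem _
          · rw [Subgroup.mem_comap, QuotientGroup.mk'_apply, hgq,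
              Subgroup.mem_centralizer_singleton_iff]
        exact Subgroup.mem_centralizer_singleton_iff.1 (this hy)
      simp only [piece, coeff_ofFun]
      have h1 : (QuotientGroup.mk (h * x * h⁻¹) : X ⧸ L) = q ↔ (QuotientGroup.mk x : X ⧸ L) = q := by
        have hq2 : (QuotientGroup.mk h : X ⧸ L) * q * (QuotientGroup.mk h : X ⧸ L)⁻¹ = q := by
          rw [show (QuotientGroup.mk h : X ⧸ L) * q = q * QuotientGroup.mk h from (hc h hh).eq,
            mul_inv_cancel_right]
        rw [QuotientGroup.mk_mul, QuotientGroup.mk_mul, QuotientGroup.mk_inv]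
        conv_lhs => rw [← hq2]
        simp
      simp only [h1, coeff_conj_of_mem_ctr z.2]
  · simp

/-- The characters over `θ`. -/
def overSet (θ : IrrCharacter K) : Set (IrrCharacter X) := {χ | Over K θ χ}

theorem mem_overSet {χ : IrrCharacter X} : χ ∈ overSet θ ↔ Over K θ χ := Iff.rfl

include hs hM hθ in
theorem isBlockUnion_overSet : IsBlockUnion M (overSet (X := X) θ) := by
  classical
  intro χ hχ ψ hψ
  have h := DFunLike.congr_fun ((sameBlock_iff χ ψ).1 hψ) (eCtr hM hs.hK hθ)
  rw [omegaBar_eCtr, omegaBar_eCtr, if_pos (show Over K θ χ from hχ)] at h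
  by_contra hn
  rw [if_neg (show ¬ Over K θ ψ from hn)] at h
  exact one_ne_zero h

include hs hM hθ in
theorem exists_minimal_of_mem {B : Set (IrrCharacter X)} (hB : Cfsg.IsPBlock M B)
    (hBsub : B ⊆ overSet θ) : ∃ S : Submodule (Res M) (GA (Res M) X), IsMinimalStable L S ∧
      (∀ s ∈ S, (eCtr hM hs.hK hθ : GA (Res M) X) * s = s) ∧
      ∀ s ∈ S, (idemBar M B (isBlockUnion_of_isPBlock hB) : GA (Res M) X) * s = s := by
  classical
  set f := idemBar M B (isBlockUnion_of_isPBlock hB) with hf
  set e := eCtr hM hs.hK hθ with he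
  have hff : f * f = f := idemBar_mul_self _ _
  have hee : e * e = e := eCtr_mul_self hM hs.hK hθ
  have hef : e * f = f := by
    have hn : IsNilpotent (f - e * f) := by
      refine isNilpotent_of_omegaBar_eq_zero _ fun ψ => ?_
      rw [map_sub, map_mul, hf, he, omegaBar_idemBar, omegaBar_eCtr]
      by_cases h : ψ ∈ B
      · rw [if_pos h, if_pos (show Over K θ ψ from hBsub h), one_mul, sub_self]
      · rw [if_neg h, mul_zero, sub_zero]
    have hid : IsIdempotentElem (f - e * f) := by
      show (f - e * f) * (f - e * f) = f - e * f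
      linear_combination (1 - 2 * e + e * e) * hff + f * hee
    exact (sub_eq_zero.1 (hid.eq_zero_of_isNilpotent hn)).symm
  obtain ⟨χ, hχ⟩ := isPBlock_nonempty hB
  have hf0 : (f : GA (Res M) X) ≠ 0 := fun h => by
    have h1 := omegaBar_idemBar (M := M) B (isBlockUnion_of_isPBlock hB) χ
    rw [if_pos hχ, ← hf, show f = 0 from Subtype.ext h, map_zero] at h1
    exact zero_ne_one h1
  obtain ⟨S, hSW, hS⟩ := exists_isMinimalStable L
    (W := LinearMap.range (LinearMap.mulLeft (Res M) (f : GA (Res M) X)))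
    (fun h => hf0 (by
      have : (f : GA (Res M) X) * 1 ∈ LinearMap.range (LinearMap.mulLeft (Res M) (f : GA (Res M) X)) :=
        ⟨1, rfl⟩
      rw [h, Submodule.mem_bot, mul_one] at this
      exact this))
    (by
      rintro l - _ ⟨x, rfl⟩
      refine ⟨single l 1 * x, ?_⟩
      show (f : GA (Res M) X) * (single l 1 * x) = single l 1 * ((f : GA (Res M) X) * x)
      rw [← mul_assoc, ← mul_assoc, Subring.mem_center_iff.1 f.2 (single l 1)])
  refine ⟨S, hS, fun s hsS => ?_, fun s hsS => ?_⟩
  · obtain ⟨x, rfl⟩ := hSW hsS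
    show (e : GA (Res M) X) * ((f : GA (Res M) X) * x) = (f : GA (Res M) X) * x
    rw [← mul_assoc, ← Subring.coe_mul, hef]
  · obtain ⟨x, rfl⟩ := hSW hsS
    show (f : GA (Res M) X) * ((f : GA (Res M) X) * x) = (f : GA (Res M) X) * x
    rw [← mul_assoc, ← Subring.coe_mul, hff]

include hs hM hθ in
/-- The characters over `θ` form one block. -/
theorem isPBlock_overSet : Cfsg.IsPBlock M (overSet (X := X) θ) := by
  classical
  obtain ⟨χ₀, hχ₀, hover⟩ := CharactersDeep.Clifford.exists_over K θ.2
  let χ : IrrCharacter X := ⟨χ₀, hχ₀⟩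
  have hU := isBlockUnion_overSet hs hM hθ
  refine ⟨χ, Set.Subset.antisymm (fun ψ hψ => ?_) (hU χ hover)⟩
  by_contra hne
  have hB := isPBlock_blockOf (M := M) χ
  have hB' := isPBlock_blockOf (M := M) ψ
  obtain ⟨S, hS, heS, hfS⟩ := exists_minimal_of_mem hs hM hθ hB (hU χ hover)
  obtain ⟨S', hS', heS', hfS'⟩ := exists_minimal_of_mem hs hM hθ hB' (hU ψ hψ)
  set f := idemBar M _ (isBlockUnion_of_isPBlock hB)
  set f' := idemBar M _ (isBlockUnion_of_isPBlock hB')
  have hdisj : ∀ η ∈ Cfsg.blockOf M (χ : X → ℂ), η ∉ Cfsg.blockOf M (ψ : X → ℂ) :=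
    fun η h h' => hne (isPBlock_eq_of_mem hB hB' h h' ▸ mem_blockOf_self ψ)
  have hreg : ∀ g, (f : GA (Res M) X).coeff g ≠ 0 → ¬ p ∣ orderOf g := by
    intro g hg hd
    refine hg ?_
    rw [coeff_idemBar, red_eq_zero_iff]
    show Cfsg.MemLocalIdeal M (Cfsg.blockCoeff (Cfsg.blockOf M (χ : X → ℂ)) g)
    rw [BlocksLocal.blockCoeff_eq_zero_of_dvd hM (isBlockUnion_of_isPBlock hB) hd]
    exact memLocalIdeal_zero
  set c := omegaBar M θ (resCtr K f)
  obtain ⟨s, hsS, hs0⟩ := (Submodule.ne_bot_iff S).1 hS.1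
  have hc : c = 1 := by
    have h := mul_eq_smul hs hM hθ hS heS f hreg s hsS
    rw [hfS s hsS] at h
    by_contra hc
    refine hs0 ((smul_eq_zero.1 (show (c - 1) • s = 0 by
      rw [sub_smul, one_smul, ← h, sub_self])).resolve_left (sub_ne_zero.2 hc))
  obtain ⟨t, htS, ht0⟩ := (Submodule.ne_bot_iff S').1 hS'.1
  have h := mul_eq_smul hs hM hθ hS' heS' f hreg t htS
  rw [← hfS' t htS, ← mul_assoc, ← Subring.coe_mul, idemBar_mul_of_disjoint _ _ hdisj,
    Subring.coe_zero, zero_mul, hfS' t htS, show omegaBar M θ (resCtr K f) = c from rfl, hc,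
    one_smul] at h
  exact ht0 h.symm

include hs hM hθ in
/-- The block over `θ` contains a character of degree prime to `p`. -/
theorem exists_degree_prime : ∃ χ ∈ overSet (X := X) θ, ¬ p ∣ Cfsg.charDegree (χ : X → ℂ) := by
  classical
  obtain ⟨P⟩ : Nonempty (Sylow p X) := inferInstance
  let T : Subgroup X := K ⊔ (P : Subgroup X)
  haveI := Fintype.ofFinite T
  have hTi : ¬ p ∣ T.index := fun h =>
    P.not_dvd_index (h.trans (Subgroup.index_dvd_of_le le_sup_right))
  have hq : ∃ k, K.relIndex T = p ^ k := by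
    have h1 : K.relIndex T = Nat.card (T.map (QuotientGroup.mk' K)) := by
      rw [← Subgroup.relIndex_ker, QuotientGroup.ker_mk']
    have hbot : K.map (QuotientGroup.mk' K) = ⊥ := by simp
    rw [h1, Subgroup.map_sup, hbot, bot_sup_eq]
    exact IsPGroup.iff_card.1 (P.2.map _)
  obtain ⟨η, -, hres, -⟩ := exists_extension hθ hs.hK T le_sup_left hq
  have hsum : ∑ χ : IrrCharacter X,
      (χ : X → ℂ) 1 * Cfsg.classInner (fun t : T => (χ : X → ℂ) t) (η : T → ℂ) =
      (T.index : ℂ) * (θ : K → ℂ) 1 := by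
    simp only [Cfsg.classInner, Finset.mul_sum]
    rw [Finset.sum_comm]
    calc ∑ t : T, ∑ χ : IrrCharacter X,
          (χ : X → ℂ) 1 * ((Nat.card T : ℂ)⁻¹ * ((χ : X → ℂ) t * conj ((η : T → ℂ) t)))
        = ∑ t : T, (Nat.card T : ℂ)⁻¹ * conj ((η : T → ℂ) t) *
            (if (t : X) = 1 then (Nat.card X : ℂ) else 0) := by
          refine Finset.sum_congr rfl fun t _ => ?_
          rw [← Characters.sum_degree_mul (t : X), Finset.mul_sum]
          exact Finset.sum_congr rfl fun χ _ => by ring
      _ = (Nat.card T : ℂ)⁻¹ * conj ((η : T → ℂ) 1) * (Nat.card X : ℂ) := by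
          rw [Finset.sum_eq_single 1]
          · simp
          · intro t _ ht
            rw [if_neg fun h : (t : X) = 1 => ht (Subtype.ext h), mul_zero]
          · simp
      _ = (T.index : ℂ) * (θ : K → ℂ) 1 := by
          rw [show (η : T → ℂ) 1 = (θ : K → ℂ) 1 from by rw [← hres 1, map_one],
            ← charDegree_cast θ, Complex.conj_natCast, ← T.index_mul_card]
          push_cast
          field_simp [Characters.natCard_ne_zero]
  have hnat : ∀ χ : IrrCharacter X,
      ∃ m : ℕ, Cfsg.classInner (fun t : T => (χ : X → ℂ) t) (η : T → ℂ) = m := fun χ =>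
    Characters.classInner_character_irr
      (Characters.isCharacter_restrict T (Characters.isCharacter_of_isIrr χ.2)) η.2
  choose m hm using hnat
  have hsumN : ∑ χ : IrrCharacter X, Cfsg.charDegree (χ : X → ℂ) * m χ =
      T.index * Cfsg.charDegree (θ : K → ℂ) := by
    apply Nat.cast_injective (R := ℂ)
    push_cast
    rw [charDegree_cast, ← hsum]
    exact Finset.sum_congr rfl fun χ _ => by rw [charDegree_cast, hm]
  have hnd : ¬ p ∣ ∑ χ : IrrCharacter X, Cfsg.charDegree (χ : X → ℂ) * m χ := by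
    rw [hsumN, (Fact.out : p.Prime).dvd_mul]
    exact fun h => h.elim hTi (not_dvd_charDegree hs.hK θ)
  obtain ⟨χ, -, hχ⟩ : ∃ χ ∈ (Finset.univ : Finset (IrrCharacter X)),
      ¬ p ∣ Cfsg.charDegree (χ : X → ℂ) * m χ := by
    by_contra hno
    push Not at hno
    exact hnd (Finset.dvd_sum hno)
  refine ⟨χ, ?_, fun h => hχ (dvd_mul_of_dvd_left h _)⟩
  have hm0 : m χ ≠ 0 := fun h => hχ (by rw [h, mul_zero]; exact dvd_zero p)
  -- the constituents over `η` lie over `θ`
  let F : T → ℂ := fun t => (χ : X → ℂ) t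
  obtain ⟨c, hc⟩ := Characters.exists_nat_coeff
    (Characters.isCharacter_restrict T (Characters.isCharacter_of_isIrr χ.2) : Cfsg.IsCharacter T F)
  have hcη : (c η : ℂ) = m χ := by
    rw [← hm χ]
    rw [hc]
    exact (Characters.classInner_irr_coeff (fun ψ => (c ψ : ℂ)) η).symm
  have hexp : (fun k : K => (χ : X → ℂ) k) =
      ∑ ψ : IrrCharacter T, (c ψ : ℂ) • fun k : K => (ψ : T → ℂ) (Subgroup.inclusion le_sup_left k) := by
    funext k
    have := congrFun hc (Subgroup.inclusion le_sup_left k)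
    simp only [Subgroup.coe_inclusion, Finset.sum_apply, Pi.smul_apply] at this ⊢
    exact this
  have hk : ∀ ψ : IrrCharacter T, ∃ k : ℕ, Cfsg.classInner
      (fun k : K => (ψ : T → ℂ) (Subgroup.inclusion le_sup_left k)) (θ : K → ℂ) = k := fun ψ =>
    Characters.classInner_character_irr
      (Characters.isCharacter_comp (Subgroup.inclusion le_sup_left)
        (Characters.isCharacter_of_isIrr ψ.2)) θ.2
  choose k hk using hk
  have hkη : k η = 1 := by
    apply Nat.cast_injective (R := ℂ)
    rw [← hk η, Nat.cast_one, ← Characters.classInner_isIrr_self θ.2]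
    congr 1
    exact funext hres
  show Cfsg.classInner (fun k : K => (χ : X → ℂ) k) (θ : K → ℂ) ≠ 0
  rw [hexp, Characters.classInner_sum_left]
  simp only [Characters.classInner_smul_left, hk, ← Nat.cast_mul, ← Nat.cast_sum, Nat.cast_ne_zero]
  intro h0
  have := Finset.sum_eq_zero_iff.1 h0 η (Finset.mem_univ _)
  rw [hkη, mul_one] at this
  exact hm0 (by exact_mod_cast (hcη.symm.trans (by rw [this]) : (m χ : ℂ) = (0 : ℕ)))

include hs hM hθ in
/-- Every Sylow p-subgroup is a defect group of the block over `θ`. -/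
theorem isDefectGroup_overSet (P : Sylow p X) :
    Cfsg.IsDefectGroup p M (overSet (X := X) θ) (P : Subgroup X) := by
  classical
  have hB := isPBlock_overSet hs hM hθ
  obtain ⟨D, hD⟩ := exists_isDefectGroup (p := p) hB
  obtain ⟨χ, hχ, hdeg⟩ := exists_degree_prime hs hM hθ
  have h0 : Cfsg.blockDefect p (overSet (X := X) θ) = (Nat.card X).factorization p := by
    rw [Cfsg.blockDefect]
    have : sInf ((fun χ : IrrCharacter X => (Cfsg.charDegree (χ : X → ℂ)).factorization p) ''
        overSet θ) = 0 :=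
      Nat.sInf_eq_zero.2 (Or.inl ⟨χ, hχ, Nat.factorization_eq_zero_of_not_dvd hdeg⟩)
    rw [this, Nat.sub_zero]
  have hcard := card_defectGroup hM hB hD
  rw [h0] at hcard
  obtain ⟨S, hS⟩ : ∃ S : Sylow p X, (S : Subgroup X) = D :=
    ⟨Sylow.ofCard D hcard, Sylow.coe_ofCard D hcard⟩
  obtain ⟨x, hx⟩ := MulAction.exists_smul_eq X S P
  have := IsDefectGroup.conj hB hD x
  rwa [← hS, show BlockPairs.cj x (S : Subgroup X) = (P : Subgroup X) from by
    rw [← hx, Sylow.coe_subgroup_smul]; rfl] at this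

end CfsgLib.ConstrainedBlock
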